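import Cfsg.Agent.Lib.B2Orth.Root
import Cfsg.Prelude.Def_Classical

/-!
The isometry group of the form `z² + x₁y₁ + x₂y₂` is generated by the root elements, one exchange, one sign and one
torus.
-/

set_option autoImplicit false

namespace Cfsg.Agent.Lib.B2Orth

open Matrix

variable {F : Type*} [Field F]

/-- The vector with the given coordinates. -/
def mk5 (z a b c d : F) : Idx5 → F := Sum.elim (fun _ => z) (Sum.elim ![a, b] ![c, d])

theorem mk5_eta (v : Idx5 → F) :
    v = mk5 (v (.inl ())) (v (.inr (.inl 0))) (v (.inr (.inl 1))) (v (.inr (.inr 0))) (v (.inr (.inr 1))) := by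
  funext k
  rcases k with ⟨⟩ | i | i
  · rfl
  · fin_cases i <;> rfl
  · fin_cases i <;> rfl

theorem exists_mk5 (v : Idx5 → F) : ∃ z a b c d, v = mk5 z a b c d := ⟨_, _, _, _, _, mk5_eta v⟩

/-- The quadratic form. -/
abbrev qf (v : Idx5 → F) : F := Cfsg.quadFormOdd 2 F v

theorem qf_mk5 (z a b c d : F) : qf (mk5 z a b c d) = z ^ 2 + a * c + b * d := by
  simp [qf, Cfsg.quadFormOdd, mk5, Fin.sum_univ_two, add_assoc]

/-- The action on column vectors. -/
abbrev mv (g : GL Idx5 F) (v : Idx5 → F) : Idx5 → F := (g : Matrix Idx5 Idx5 F) *ᵥ v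

theorem mv_mul (g h : GL Idx5 F) (v : Idx5 → F) : mv (g * h) v = mv g (mv h v) := by
  rw [mv, mv, mv, Units.val_mul, Matrix.mulVec_mulVec]

theorem mv_one (v : Idx5 → F) : mv (1 : GL Idx5 F) v = v := by rw [mv, Units.val_one, Matrix.one_mulVec]

theorem mv_injective (g : GL Idx5 F) : Function.Injective (mv g) := fun u w e => by
  have := congrArg (mv g⁻¹) e
  rwa [← mv_mul, ← mv_mul, inv_mul_cancel, mv_one, mv_one] at this

section action

variable (t z a b c d : F)

theorem mv_root0 : mv (rootY F 0 t) (mk5 z a b c d) = mk5 z a b (c - t * b) (d + t * a) := by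
  funext k
  rw [mv, coe_rootY (by norm_num)]
  rcases k with ⟨⟩ | i | i <;> [skip; fin_cases i; fin_cases i] <;>
    simp [X5, entM, linOf, quadOf, linTab, quadTab, atExp, ev_apply, evT, cf, code, Matrix.mulVec, dotProduct,
      Fintype.sum_sum_type, Fin.sum_univ_two, mk5, Matrix.one_apply] <;> ring

theorem mv_root1 : mv (rootY F 1 t) (mk5 z a b c d) = mk5 (z - t * a) a b (c + 2 * t * z - t * t * a) d := by
  funext k
  rw [mv, coe_rootY (by norm_num)]
  rcases k with ⟨⟩ | i | i <;> [skip; fin_cases i; fin_cases i] <;>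
    simp [X5, entM, linOf, quadOf, linTab, quadTab, atExp, ev_apply, evT, cf, code, Matrix.mulVec, dotProduct,
      Fintype.sum_sum_type, Fin.sum_univ_two, mk5, Matrix.one_apply] <;> ring

theorem mv_root2 : mv (rootY F 2 t) (mk5 z a b c d) = mk5 (z - t * b) a b c (d + 2 * t * z - t * t * b) := by
  funext k
  rw [mv, coe_rootY (by norm_num)]
  rcases k with ⟨⟩ | i | i <;> [skip; fin_cases i; fin_cases i] <;>
    simp [X5, entM, linOf, quadOf, linTab, quadTab, atExp, ev_apply, evT, cf, code, Matrix.mulVec, dotProduct,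
      Fintype.sum_sum_type, Fin.sum_univ_two, mk5, Matrix.one_apply] <;> ring

theorem mv_root3 : mv (rootY F 3 t) (mk5 z a b c d) = mk5 z a (b + t * a) (c - t * d) d := by
  funext k
  rw [mv, coe_rootY (by norm_num)]
  rcases k with ⟨⟩ | i | i <;> [skip; fin_cases i; fin_cases i] <;>
    simp [X5, entM, linOf, quadOf, linTab, quadTab, atExp, ev_apply, evT, cf, code, Matrix.mulVec, dotProduct,
      Fintype.sum_sum_type, Fin.sum_univ_two, mk5, Matrix.one_apply] <;> ring

theorem mv_root4 : mv (rootY F 4 t) (mk5 z a b c d) = mk5 z (a + t * b) b c (d - t * c) := by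
  funext k
  rw [mv, coe_rootY (by norm_num)]
  rcases k with ⟨⟩ | i | i <;> [skip; fin_cases i; fin_cases i] <;>
    simp [X5, entM, linOf, quadOf, linTab, quadTab, atExp, ev_apply, evT, cf, code, Matrix.mulVec, dotProduct,
      Fintype.sum_sum_type, Fin.sum_univ_two, mk5, Matrix.one_apply] <;> ring

theorem mv_root5 : mv (rootY F 5 t) (mk5 z a b c d) = mk5 (z + t * d) a (b - 2 * t * z - t * t * d) c d := by
  funext k
  rw [mv, coe_rootY (by norm_num)]
  rcases k with ⟨⟩ | i | i <;> [skip; fin_cases i; fin_cases i] <;>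
    simp [X5, entM, linOf, quadOf, linTab, quadTab, atExp, ev_apply, evT, cf, code, Matrix.mulVec, dotProduct,
      Fintype.sum_sum_type, Fin.sum_univ_two, mk5, Matrix.one_apply] <;> ring

theorem mv_root6 : mv (rootY F 6 t) (mk5 z a b c d) = mk5 (z + t * c) (a - 2 * t * z - t * t * c) b c d := by
  funext k
  rw [mv, coe_rootY (by norm_num)]
  rcases k with ⟨⟩ | i | i <;> [skip; fin_cases i; fin_cases i] <;>
    simp [X5, entM, linOf, quadOf, linTab, quadTab, atExp, ev_apply, evT, cf, code, Matrix.mulVec, dotProduct,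
      Fintype.sum_sum_type, Fin.sum_univ_two, mk5, Matrix.one_apply] <;> ring

theorem mv_root7 : mv (rootY F 7 t) (mk5 z a b c d) = mk5 z (a + t * d) (b - t * c) c d := by
  funext k
  rw [mv, coe_rootY (by norm_num)]
  rcases k with ⟨⟩ | i | i <;> [skip; fin_cases i; fin_cases i] <;>
    simp [X5, entM, linOf, quadOf, linTab, quadTab, atExp, ev_apply, evT, cf, code, Matrix.mulVec, dotProduct,
      Fintype.sum_sum_type, Fin.sum_univ_two, mk5, Matrix.one_apply] <;> ring

end action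

/-! ### The exchange, the sign and the torus -/

variable (F) in
/-- The exchange of `x₂` and `y₂`. -/
def swapGL : GL Idx5 F :=
  ⟨ev 1 1 swapL, ev 1 1 swapL,
    by rw [← ev_mulL _ _ _ _ (by decide), ev_eq_of_eqL swap_sq, ev_oneL],
    by rw [← ev_mulL _ _ _ _ (by decide), ev_eq_of_eqL swap_sq, ev_oneL]⟩

variable (F) in
/-- The sign of `z`. -/
def signGL : GL Idx5 F :=
  ⟨ev 1 1 signL, ev 1 1 signL,
    by rw [← ev_mulL _ _ _ _ (by decide), ev_eq_of_eqL sign_sq, ev_oneL],
    by rw [← ev_mulL _ _ _ _ (by decide), ev_eq_of_eqL sign_sq, ev_oneL]⟩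

theorem mv_swapGL (z a b c d : F) : mv (swapGL F) (mk5 z a b c d) = mk5 z a d c b := by
  funext k
  rw [mv, show (swapGL F : Matrix Idx5 Idx5 F) = ev 1 1 swapL from rfl]
  rcases k with ⟨⟩ | i | i <;> [skip; fin_cases i; fin_cases i] <;>
    simp [swapL, ev_apply, evT, cf, code, Matrix.mulVec, dotProduct, Fintype.sum_sum_type, Fin.sum_univ_two, mk5]

theorem mv_signGL (z a b c d : F) : mv (signGL F) (mk5 z a b c d) = mk5 (-z) a b c d := by
  funext k
  rw [mv, show (signGL F : Matrix Idx5 Idx5 F) = ev 1 1 signL from rfl]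
  rcases k with ⟨⟩ | i | i <;> [skip; fin_cases i; fin_cases i] <;>
    simp [signL, ev_apply, evT, cf, code, Matrix.mulVec, dotProduct, Fintype.sum_sum_type, Fin.sum_univ_two, mk5]

theorem mv_scal0 (u : Fˣ) (z a b c d : F) :
    mv (scalGL F 0 u) (mk5 z a b c d) = mk5 z ((u : F) * a) b ((u : F)⁻¹ * c) d := by
  funext k
  rw [mv, coe_scalGL, scal, Matrix.mulVec_diagonal]
  rcases k with ⟨⟩ | i | i <;> [skip; fin_cases i; fin_cases i] <;> simp [wtN, code, mk5]

theorem mv_scal1 (u : Fˣ) (z a b c d : F) :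
    mv (scalGL F 1 u) (mk5 z a b c d) = mk5 z a ((u : F) * b) c ((u : F)⁻¹ * d) := by
  funext k
  rw [mv, coe_scalGL, scal, Matrix.mulVec_diagonal]
  rcases k with ⟨⟩ | i | i <;> [skip; fin_cases i; fin_cases i] <;> simp [wtN, code, mk5]

/-! ### Isometries -/

theorem qf_isometry {g : GL Idx5 F} (hg : g ∈ Cfsg.isometryGroup F (Cfsg.quadFormOdd 2 F)) (v : Idx5 → F) :
    qf (mv g v) = qf v := hg v v

theorem mem_isometry {g : GL Idx5 F} (h : ∀ z a b c d : F, qf (mv g (mk5 z a b c d)) = qf (mk5 z a b c d)) :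
    g ∈ Cfsg.isometryGroup F (Cfsg.quadFormOdd 2 F) := fun u _ => by
  obtain ⟨z, a, b, c, d, rfl⟩ := exists_mk5 u
  exact h z a b c d

theorem rootY_isometry {r : ℕ} (hr : r < 8) (t : F) :
    rootY F r t ∈ Cfsg.isometryGroup F (Cfsg.quadFormOdd 2 F) := by
  refine mem_isometry fun z a b c d => ?_
  interval_cases r
  · rw [mv_root0, qf_mk5, qf_mk5]; ring
  · rw [mv_root1, qf_mk5, qf_mk5]; ring
  · rw [mv_root2, qf_mk5, qf_mk5]; ring
  · rw [mv_root3, qf_mk5, qf_mk5]; ring
  · rw [mv_root4, qf_mk5, qf_mk5]; ring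
  · rw [mv_root5, qf_mk5, qf_mk5]; ring
  · rw [mv_root6, qf_mk5, qf_mk5]; ring
  · rw [mv_root7, qf_mk5, qf_mk5]; ring

theorem swapGL_isometry : swapGL F ∈ Cfsg.isometryGroup F (Cfsg.quadFormOdd 2 F) :=
  mem_isometry fun z a b c d => by rw [mv_swapGL, qf_mk5, qf_mk5]; ring

theorem signGL_isometry : signGL F ∈ Cfsg.isometryGroup F (Cfsg.quadFormOdd 2 F) :=
  mem_isometry fun z a b c d => by rw [mv_signGL, qf_mk5, qf_mk5]; ring

theorem scalGL_isometry (i : Fin 2) (u : Fˣ) : scalGL F i u ∈ Cfsg.isometryGroup F (Cfsg.quadFormOdd 2 F) := by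
  refine mem_isometry fun z a b c d => ?_
  fin_cases i
  · change qf (mv (scalGL F 0 u) _) = _
    rw [mv_scal0, qf_mk5, qf_mk5]
    field_simp
  · change qf (mv (scalGL F 1 u) _) = _
    rw [mv_scal1, qf_mk5, qf_mk5]
    field_simp

variable (F) in
/-- The group generated by the root elements. -/
def elemGroup : Subgroup (GL Idx5 F) := Subgroup.closure {g | ∃ (r : ℕ) (t : F), r < 8 ∧ g = rootY F r t}

theorem rootY_mem {r : ℕ} (hr : r < 8) (t : F) : rootY F r t ∈ elemGroup F :=
  Subgroup.subset_closure ⟨r, t, hr, rfl⟩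

theorem elemGroup_le : elemGroup F ≤ Cfsg.isometryGroup F (Cfsg.quadFormOdd 2 F) := by
  refine (Subgroup.closure_le _).2 ?_
  rintro _ ⟨r, t, hr, rfl⟩
  exact rootY_isometry hr t

variable (F) in
/-- The exchange, the sign and a torus. -/
def outerSet : Set (GL Idx5 F) := {g | g = swapGL F ∨ g = signGL F ∨ ∃ u : Fˣ, g = scalGL F 1 u}

variable (F) in
/-- The group generated by the elementary and the outer elements. -/
def fullGroup : Subgroup (GL Idx5 F) := elemGroup F ⊔ Subgroup.closure (outerSet F)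

theorem rootY_mem_full {r : ℕ} (hr : r < 8) (t : F) : rootY F r t ∈ fullGroup F :=
  Subgroup.mem_sup_left (rootY_mem hr t)

theorem swapGL_mem_full : swapGL F ∈ fullGroup F :=
  Subgroup.mem_sup_right (Subgroup.subset_closure (Or.inl rfl))

theorem signGL_mem_full : signGL F ∈ fullGroup F :=
  Subgroup.mem_sup_right (Subgroup.subset_closure (Or.inr (Or.inl rfl)))

theorem scalGL_mem_full (u : Fˣ) : scalGL F 1 u ∈ fullGroup F :=
  Subgroup.mem_sup_right (Subgroup.subset_closure (Or.inr (Or.inr ⟨u, rfl⟩)))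

theorem fullGroup_le : fullGroup F ≤ Cfsg.isometryGroup F (Cfsg.quadFormOdd 2 F) := by
  refine sup_le elemGroup_le ((Subgroup.closure_le _).2 ?_)
  rintro _ (rfl | rfl | ⟨u, rfl⟩)
  exacts [swapGL_isometry, signGL_isometry, scalGL_isometry 1 u]

/-! ### Transitivity -/

/-- A nonzero singular vector is moved to the first basis vector. -/
theorem exists_move_first (v : Idx5 → F) (hv : v ≠ 0) (hq : qf v = 0) :
    ∃ k ∈ fullGroup F, mv k v = mk5 0 1 0 0 0 := by
  obtain ⟨k₀, hk₀, z, a, b, c, d, e, ha⟩ : ∃ k ∈ fullGroup F, ∃ z a b c d, mv k v = mk5 z a b c d ∧ a ≠ 0 := by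
    obtain ⟨z, a, b, c, d, rfl⟩ := exists_mk5 v
    by_cases ha : a = 0
    · by_cases hb : b = 0
      · by_cases hd : d = 0
        · have hc : c ≠ 0 := by
            intro hc
            rw [qf_mk5, ha, hb] at hq
            have hz : z = 0 := pow_eq_zero_iff two_ne_zero |>.1 (by linear_combination hq)
            exact hv (by rw [hz, ha, hb, hc, hd]; funext k; rcases k with ⟨⟩ | i | i <;>
              [skip; fin_cases i; fin_cases i] <;> simp [mk5])
          refine ⟨rootY F 7 1 * rootY F 4 1, mul_mem (rootY_mem_full (by norm_num) _) (rootY_mem_full (by norm_num) _),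
            _, _, _, _, _, by rw [mv_mul, mv_root4, mv_root7], ?_⟩
          simpa [ha, hb, hd] using hc
        · refine ⟨rootY F 7 1, rootY_mem_full (by norm_num) _, _, _, _, _, _, mv_root7 1 z a b c d, ?_⟩
          simpa [ha] using hd
      · refine ⟨rootY F 4 1, rootY_mem_full (by norm_num) _, _, _, _, _, _, mv_root4 1 z a b c d, ?_⟩
        simpa [ha] using hb
    · exact ⟨1, one_mem _, z, a, b, c, d, mv_one _, ha⟩
  have hq' : z ^ 2 + a * c + b * d = 0 := by
    rw [← qf_mk5, ← e, qf_isometry (fullGroup_le hk₀), hq]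
  refine ⟨rootY F 3 (-a) * rootY F 4 ((1 - a) / a) * rootY F 3 1 *
    rootY F 1 (z / a) * rootY F 0 (-d / a) * rootY F 3 (-b / a) * k₀, ?_, ?_⟩
  · repeat' apply mul_mem
    all_goals first | exact hk₀ | exact rootY_mem_full (by norm_num) _
  · simp only [mv_mul, e, mv_root3, mv_root0, mv_root1, mv_root4]
    congr 1
    · field_simp; ring
    · field_simp; ring
    · field_simp; ring
    · field_simp; first | ring1 | linear_combination a * hq' | linear_combination hq'
    · field_simp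
      first | ring1 | linear_combination (a - 1) * hq' | linear_combination (-(a - 1)) * hq'

/-- An isometry fixing a basis vector keeps the opposite coordinate. -/
theorem coord_of_fix {g : GL Idx5 F} (hg : g ∈ Cfsg.isometryGroup F (Cfsg.quadFormOdd 2 F)) {z a b c d : F}
    (hfix : mv g (mk5 z a b c d) = mk5 z a b c d) (v : Idx5 → F) :
    2 * z * mv g v (.inl ()) + a * mv g v (.inr (.inr 0)) + c * mv g v (.inr (.inl 0)) +
        b * mv g v (.inr (.inr 1)) + d * mv g v (.inr (.inl 1)) =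
      2 * z * v (.inl ()) + a * v (.inr (.inr 0)) + c * v (.inr (.inl 0)) +
        b * v (.inr (.inr 1)) + d * v (.inr (.inl 1)) := by
  have h := qf_isometry hg (v + mk5 z a b c d)
  have h0 := qf_isometry hg v
  rw [mv, Matrix.mulVec_add, ← mv, ← mv, hfix] at h
  simp only [qf, Cfsg.quadFormOdd, Fin.sum_univ_two, Pi.add_apply, mk5, Sum.elim_inl, Sum.elim_inr,
    Matrix.cons_val_zero, Matrix.cons_val_one] at h h0
  linear_combination h - h0

theorem eq_of_mv {g h : GL Idx5 F} (hh : ∀ v, mv g v = mv h v) : g = h := by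
  ext1
  exact Matrix.ext_of_mulVec_single fun i => hh _

theorem mk5_split (z a b c d : F) :
    mk5 z a b c d = z • mk5 1 0 0 0 0 + a • mk5 0 1 0 0 0 + b • mk5 0 0 1 0 0 + c • mk5 0 0 0 1 0 +
      d • mk5 0 0 0 0 1 := by
  funext k
  rcases k with ⟨⟩ | i | i <;> [skip; fin_cases i; fin_cases i] <;> simp [mk5]

/-- An isometry fixing the four singular basis vectors. -/
theorem eq_of_fix_four {g : GL Idx5 F} (hg : g ∈ Cfsg.isometryGroup F (Cfsg.quadFormOdd 2 F))
    (h1 : mv g (mk5 0 1 0 0 0) = mk5 0 1 0 0 0) (h2 : mv g (mk5 0 0 0 1 0) = mk5 0 0 0 1 0)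
    (h3 : mv g (mk5 0 0 1 0 0) = mk5 0 0 1 0 0) (h4 : mv g (mk5 0 0 0 0 1) = mk5 0 0 0 0 1) :
    g ∈ fullGroup F := by
  obtain ⟨s, a, b, c, d, e⟩ := exists_mk5 (mv g (mk5 1 0 0 0 0))
  have hc := coord_of_fix hg h1 (mk5 1 0 0 0 0)
  have ha := coord_of_fix hg h2 (mk5 1 0 0 0 0)
  have hd := coord_of_fix hg h3 (mk5 1 0 0 0 0)
  have hb := coord_of_fix hg h4 (mk5 1 0 0 0 0)
  rw [e] at hc ha hd hb
  simp [mk5] at hc ha hd hb
  subst hc ha hd hb
  have hs : s = 1 ∨ s = -1 := by
    have := qf_isometry hg (mk5 1 0 0 0 0)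
    rw [e, qf_mk5, qf_mk5] at this
    exact sq_eq_one_iff.1 (by linear_combination this)
  have key : ∀ z a b c d, mv g (mk5 z a b c d) = mk5 (s * z) a b c d := by
    intro z a b c d
    rw [mk5_split z a b c d, mk5_split (s * z)]
    simp only [mv, Matrix.mulVec_add, Matrix.mulVec_smul]
    rw [show (g : Matrix Idx5 Idx5 F) *ᵥ mk5 1 0 0 0 0 = _ from e,
      show (g : Matrix Idx5 Idx5 F) *ᵥ mk5 0 1 0 0 0 = _ from h1,
      show (g : Matrix Idx5 Idx5 F) *ᵥ mk5 0 0 1 0 0 = _ from h3,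
      show (g : Matrix Idx5 Idx5 F) *ᵥ mk5 0 0 0 1 0 = _ from h2,
      show (g : Matrix Idx5 Idx5 F) *ᵥ mk5 0 0 0 0 1 = _ from h4, mk5_split s]
    simp [smul_smul, mul_comm]
  rcases hs with rfl | rfl
  · have : g = 1 := eq_of_mv fun v => by
      obtain ⟨z, a, b, c, d, rfl⟩ := exists_mk5 v
      rw [key, mv_one, one_mul]
    exact this ▸ one_mem _
  · have : g = signGL F := eq_of_mv fun v => by
      obtain ⟨z, a, b, c, d, rfl⟩ := exists_mk5 v
      rw [key, mv_signGL, neg_one_mul]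
    exact this ▸ signGL_mem_full

theorem isometry_le_full : Cfsg.isometryGroup F (Cfsg.quadFormOdd 2 F) ≤ fullGroup F := by
  intro g hg
  -- one more element of the full group on the left at each step
  have descend : ∀ {g k : GL Idx5 F}, k ∈ fullGroup F → k * g ∈ fullGroup F → g ∈ fullGroup F :=
    fun hk h => (Subgroup.mul_mem_cancel_left _ hk).1 h
  have hiso : ∀ {g k : GL Idx5 F}, k ∈ fullGroup F → g ∈ Cfsg.isometryGroup F (Cfsg.quadFormOdd 2 F) →
      k * g ∈ Cfsg.isometryGroup F (Cfsg.quadFormOdd 2 F) := fun hk h => mul_mem (fullGroup_le hk) h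
  -- the first vector
  obtain ⟨k, hk, hkv⟩ := exists_move_first (mv g (mk5 0 1 0 0 0))
    (fun h => by
      have := mv_injective g (h.trans (Matrix.mulVec_zero _).symm)
      simpa [mk5] using congrFun this (.inr (.inl 0)))
    (by rw [qf_isometry hg, qf_mk5]; ring)
  refine descend hk ?_
  replace hg := hiso hk hg
  rw [← mv_mul] at hkv
  generalize k * g = g' at hg hkv ⊢
  clear! g k
  rename' g' => g, hkv => h1
  -- its partner
  obtain ⟨z, a, b, c, d, e⟩ := exists_mk5 (mv g (mk5 0 0 0 1 0))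
  have hc := coord_of_fix hg h1 (mk5 0 0 0 1 0)
  rw [e] at hc
  simp [mk5] at hc
  subst hc
  have hq := qf_isometry hg (mk5 0 0 0 1 0)
  rw [e, qf_mk5, qf_mk5] at hq
  have hk : rootY F 6 (-z) * (rootY F 7 b * rootY F 4 d) ∈ fullGroup F :=
    mul_mem (rootY_mem_full (by norm_num) _) (mul_mem (rootY_mem_full (by norm_num) _) (rootY_mem_full (by norm_num) _))
  refine descend hk ?_
  replace hg := hiso hk hg
  have h2 : mv (rootY F 6 (-z) * (rootY F 7 b * rootY F 4 d) * g) (mk5 0 0 0 1 0) = mk5 0 0 0 1 0 := by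
    simp only [mv_mul, e, mv_root4, mv_root7, mv_root6]
    congr 1 <;> first | ring1 | linear_combination hq
  replace h1 : mv (rootY F 6 (-z) * (rootY F 7 b * rootY F 4 d) * g) (mk5 0 1 0 0 0) = mk5 0 1 0 0 0 := by
    simp only [mv_mul, h1, mv_root4, mv_root7, mv_root6]
    congr 1 <;> ring
  generalize rootY F 6 (-z) * (rootY F 7 b * rootY F 4 d) * g = g' at hg h1 h2 ⊢
  clear! g z a b d
  rename' g' => g
  -- the second plane
  have hx : ∀ v, mv g v (.inr (.inr 0)) = v (.inr (.inr 0)) := fun v => by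
    simpa using coord_of_fix hg h1 v
  have hy : ∀ v, mv g v (.inr (.inl 0)) = v (.inr (.inl 0)) := fun v => by
    simpa using coord_of_fix hg h2 v
  obtain ⟨k, hk, hk1, hk2, hk3⟩ : ∃ k ∈ fullGroup F, mv k (mk5 0 1 0 0 0) = mk5 0 1 0 0 0 ∧
      mv k (mk5 0 0 0 1 0) = mk5 0 0 0 1 0 ∧ mv (k * g) (mk5 0 0 1 0 0) = mk5 0 0 1 0 0 := by
    obtain ⟨z, a, b, c, d, e⟩ := exists_mk5 (mv g (mk5 0 0 1 0 0))
    have ha : a = 0 := by
      have := hy (mk5 0 0 1 0 0)
      rw [e] at this
      simpa [mk5] using this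
    have hc : c = 0 := by
      have := hx (mk5 0 0 1 0 0)
      rw [e] at this
      simpa [mk5] using this
    subst ha hc
    obtain ⟨k₀, hk₀, p₁, p₂, z', b', d', e', hb⟩ : ∃ k ∈ fullGroup F, mv k (mk5 0 1 0 0 0) = mk5 0 1 0 0 0 ∧
        mv k (mk5 0 0 0 1 0) = mk5 0 0 0 1 0 ∧
        ∃ z' b' d', mv (k * g) (mk5 0 0 1 0 0) = mk5 z' 0 b' 0 d' ∧ b' ≠ 0 := by
      by_cases hb : b = 0
      · have hd : d ≠ 0 := by
          intro hd
          have hq := qf_isometry hg (mk5 0 0 1 0 0)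
          rw [e, qf_mk5, qf_mk5, hb, hd] at hq
          have hz : z = 0 := pow_eq_zero_iff two_ne_zero |>.1 (by linear_combination hq)
          have h0 : mv g (mk5 0 0 1 0 0) = mv g 0 := by
            rw [e, hz, hb, hd, show mv g (0 : Idx5 → F) = 0 from Matrix.mulVec_zero _]
            funext k; rcases k with ⟨⟩ | i | i <;> [skip; fin_cases i; fin_cases i] <;> simp [mk5]
          simpa [mk5] using congrFun (mv_injective g h0) (.inr (.inl 1))
        exact ⟨swapGL F, swapGL_mem_full, mv_swapGL .., mv_swapGL .., z, d, b,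
          by rw [mv_mul, e, mv_swapGL], hd⟩
      · exact ⟨1, one_mem _, mv_one _, mv_one _, z, b, d, by rw [one_mul, e], hb⟩
    have hq : z' ^ 2 + b' * d' = 0 := by
      have hq := qf_isometry (hiso hk₀ hg) (mk5 0 0 1 0 0)
      rw [e', qf_mk5, qf_mk5] at hq
      linear_combination hq
    refine ⟨scalGL F 1 (Units.mk0 b' hb)⁻¹ * rootY F 2 (z' / b') * k₀,
      mul_mem (mul_mem (scalGL_mem_full _) (rootY_mem_full (by norm_num) _)) hk₀, ?_, ?_, ?_⟩
    · simp only [mv_mul, p₁, mv_root2, mv_scal1]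
      congr 1 <;> simp
    · simp only [mv_mul, p₂, mv_root2, mv_scal1]
      congr 1 <;> simp
    · rw [mul_assoc, mv_mul, mv_mul, e', mv_root2, mv_scal1]
      congr 1
      all_goals try simp only [Units.val_inv_eq_inv_val, Units.val_mk0, inv_inv]
      all_goals try field_simp
      all_goals first | ring1 | linear_combination hq | linear_combination b' * hq
  refine descend hk ?_
  replace hg := hiso hk hg
  replace h1 : mv (k * g) (mk5 0 1 0 0 0) = mk5 0 1 0 0 0 := by rw [mv_mul, h1, hk1]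
  replace h2 : mv (k * g) (mk5 0 0 0 1 0) = mk5 0 0 0 1 0 := by rw [mv_mul, h2, hk2]
  generalize k * g = g' at hg h1 h2 hk3 ⊢
  clear! g k
  rename' g' => g, hk3 => h3
  -- the last partner
  obtain ⟨z, a, b, c, d, e⟩ := exists_mk5 (mv g (mk5 0 0 0 0 1))
  have hc := coord_of_fix hg h1 (mk5 0 0 0 0 1)
  have ha := coord_of_fix hg h2 (mk5 0 0 0 0 1)
  have hd := coord_of_fix hg h3 (mk5 0 0 0 0 1)
  rw [e] at hc ha hd
  simp [mk5] at hc ha hd
  subst hc ha hd
  have hq := qf_isometry hg (mk5 0 0 0 0 1)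
  rw [e, qf_mk5, qf_mk5] at hq
  refine descend (rootY_mem_full (show 5 < 8 by norm_num) (-z)) ?_
  refine eq_of_fix_four (hiso (rootY_mem_full (by norm_num) _) hg) ?_ ?_ ?_ ?_
  · rw [mv_mul, h1, mv_root5]; congr 1 <;> ring
  · rw [mv_mul, h2, mv_root5]; congr 1 <;> ring
  · rw [mv_mul, h3, mv_root5]; congr 1 <;> ring
  · rw [mv_mul, e, mv_root5]; congr 1 <;> first | ring1 | linear_combination hq

end Cfsg.Agent.Lib.B2Orth
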