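import Cfsg.Agent.Lib.B2Orth.Omega
import Cfsg.Agent.Lib.Schur.ChevMult

/-!
`B₂(F)` is isomorphic to `PΩ₅(F)` over every field with more than two elements.
-/

set_option autoImplicit false

namespace Cfsg.Agent.Lib.B2Orth

open Cfsg.Lie Cfsg.Agent.Lib.Chev
open Cfsg.Agent.Lib.Schur Cfsg.Agent.Lib.Schur.ChevLift

universe u

variable (F : Type u) [Field F]

/-- The pairs of root elements. -/
def pairX (r : ℕ) (t : F) : GL Idx5 F × GL chevB2.Idx F :=
  if hr : r < chevB2.nroots then (rootY F r t, xGL checked_B2 F hr t) else 1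

variable {F}

theorem pairX_fst {r : ℕ} (hr : r < 8) (t : F) : (pairX F r t).1 = rootY F r t := by
  rw [pairX, dif_pos (show r < chevB2.nroots from hr)]

theorem pairX_snd {r : ℕ} (hr : r < 8) (t : F) :
    ((pairX F r t).2 : Matrix chevB2.Idx chevB2.Idx F) = chevB2.x F r t := by
  rw [pairX, dif_pos (show r < chevB2.nroots from hr)]
  rfl

theorem wordX_fst : ∀ w : List (ℕ × F), (∀ x ∈ w, x.1 < 8) →
    (wordX (pairX F) w).1 = (w.map fun p => rootY F p.1 p.2).prod
  | [], _ => by simp [wordX]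
  | x :: w, hw => by
    have ih := wordX_fst w fun a ha => hw a (List.mem_cons_of_mem _ ha)
    simp only [wordX, List.map_cons, List.prod_cons, Prod.fst_mul] at ih ⊢
    rw [ih, pairX_fst (hw x List.mem_cons_self)]

theorem wordX_snd : ∀ w : List (ℕ × F), (∀ x ∈ w, x.1 < 8) →
    ((wordX (pairX F) w).2 : Matrix chevB2.Idx chevB2.Idx F) = chevB2.wordMat F w
  | [], _ => by simp [wordX, ChevalleyDatum.wordMat]
  | x :: w, hw => by
    have ih := wordX_snd w fun a ha => hw a (List.mem_cons_of_mem _ ha)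
    simp only [wordX, ChevalleyDatum.wordMat, List.map_cons, List.prod_cons, Prod.snd_mul, Units.val_mul] at ih ⊢
    rw [ih, pairX_snd (hw x List.mem_cons_self)]

theorem nMat_conj {D : ChevalleyDatum} {C : Cert} (h : Checked D C) {i s : ℕ} (hi : i < D.rank)
    (hs : s < D.nroots) (c : Fˣ) (t : F) :
    D.nMat F (D.simple i) c * D.x F s t =
      D.x F (refl C i s) (((c ^ D.cartan i (refl C i s) : Fˣ) : F) * ((eta C i s : F) * t)) *
        D.nMat F (D.simple i) c := by
  rw [h.nMat_simple_eq hi, mul_assoc, h.nMat_mul_x hi hs t, ← mul_assoc, powDiag_eq_charDiag,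
    h.charDiag_mul_x_of_eq _ (h.refl_lt hi hs) _ (fun a ha => h.chiOf_cartan hi c ha), mul_assoc]

theorem etaSimple_B2 : etaSimpleOK chevB2 B2.cert = true := by decide +kernel

theorem rootLift_pair :
    RootLift chevB2 B2.cert (MonoidHom.snd (GL Idx5 F) (GL chevB2.Idx F)) (pairX F) where
  rooted := Rooted.mk checked_B2 descent_B2
  eta_simple := etaSimple_of_ok etaSimple_B2
  map_X r hr t := pairX_snd hr t
  add r hr t u := by
    refine Prod.ext ?_ (Units.ext ?_)
    · rw [Prod.fst_mul, pairX_fst hr, pairX_fst hr, pairX_fst hr, rootY_add hr]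
    · rw [Prod.snd_mul, Units.val_mul, pairX_snd hr, pairX_snd hr, pairX_snd hr, checked_B2.x_add hr]
  comm r hr s hs h1 h2 t u := by
    have hw : ∀ x ∈ chevB2.commWord F r s t u, x.1 < 8 := by
      intro x hx
      rw [checked_B2.commWord_eq hr hs] at hx
      obtain ⟨c, hc, rfl⟩ := List.mem_map.1 hx
      exact checked_B2.cTerms_lt hr hs c hc
    refine Prod.ext ?_ (Units.ext ?_)
    · simp only [Prod.fst_mul, pairX_fst hr, pairX_fst hs, wordX_fst _ hw]
      exact rootY_comm hr hs h1 (fun e => h2 (by rw [e, ← ng_eq ⟨r, hr⟩])) t u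
    · simp only [Prod.snd_mul, Units.val_mul, pairX_snd hr, pairX_snd hs, wordX_snd _ hw]
      exact checked_B2.commutator_formula hr hs h1 h2 t u
  permutes i hi c hc s hs t := by
    have hp : chevB2.simple i < 8 := checked_B2.simple_lt hi
    have ho : ng chevB2 (chevB2.simple i) < 8 := Checked.ng_lt hp
    have hr : refl B2.cert i s < 8 := checked_B2.refl_lt hi hs
    refine ⟨(((Units.mk0 c hc) ^ chevB2.cartan i (refl B2.cert i s) : Fˣ) : F) *
      ((eta B2.cert i s : F) * t), ?_⟩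
    have hn1 : (nX chevB2 (pairX F) i c).1 = rootN F (chevB2.simple i) c := by
      rw [nX, wordX_fst _ (by simp [hp, ho])]
      simp [rootN, ng_eq ⟨_, hp⟩, mul_assoc]
    have hn2 : ((nX chevB2 (pairX F) i c).2 : Matrix chevB2.Idx chevB2.Idx F) =
        chevB2.nMat F (chevB2.simple i) c := by
      rw [nX, wordX_snd _ (by simp [hp, ho]), ChevalleyDatum.nMat, ChevalleyDatum.nWord, checked_B2.neg_eq hp]
    refine Prod.ext ?_ ?_
    · rw [Prod.fst_mul, Prod.fst_mul, Prod.fst_inv, hn1, pairX_fst hs, pairX_fst hr]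
      exact rootN_conj hi hs (Units.mk0 c hc) t
    · rw [Prod.snd_mul, Prod.snd_mul, Prod.snd_inv, mul_inv_eq_iff_eq_mul]
      refine Units.ext ?_
      rw [Units.val_mul, Units.val_mul, hn2, pairX_snd hs, pairX_snd hr]
      exact nMat_conj checked_B2 hi hs (Units.mk0 c hc) t

theorem center_group_eq_bot (hF : ∃ a : F, a ≠ 0 ∧ a ≠ 1) : Subgroup.center ↥(chevB2.group F) = ⊥ := by
  obtain ⟨hsimp, hna⟩ := simple_B2 (F := F) hF
  refine ((inferInstance : (Subgroup.center ↥(chevB2.group F)).Normal).eq_bot_or_eq_top).resolve_right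
    fun h => hna ⟨⟨fun a b => ?_⟩⟩
  exact (Subgroup.mem_center_iff.1 (h ▸ Subgroup.mem_top a) b).symm

theorem nonempty_iso (hF : ∃ a : F, a ≠ 0 ∧ a ≠ 1) :
    Nonempty (↥(chevB2.group F) ≃* Cfsg.POmega F (Cfsg.quadFormOdd 2 F)) := by
  classical
  obtain ⟨X', L, hgen⟩ := (rootLift_pair (F := F)).restrict
  set Γ := genX (pairX F) {r | r < chevB2.nroots} with hΓ
  let fsnd : Γ →* GL chevB2.Idx F := (MonoidHom.snd _ _).comp Γ.subtype
  let ffst : Γ →* GL Idx5 F := (MonoidHom.fst _ _).comp Γ.subtype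
  have hker : fsnd.ker ≤ Subgroup.center Γ := L.ker_le_center hgen
  have hr1 : ffst.range = elemGroup F := by
    rw [MonoidHom.range_comp, Subgroup.range_subtype, hΓ, genX, MonoidHom.map_closure, elemGroup]
    congr 1
    ext g
    constructor
    · rintro ⟨_, ⟨r, hr, t, rfl⟩, rfl⟩
      exact ⟨r, t, hr, pairX_fst hr t⟩
    · rintro ⟨r, t, hr, rfl⟩
      exact ⟨_, ⟨r, hr, t, rfl⟩, pairX_fst hr t⟩
  have hr2 : fsnd.range = chevB2.group F := by
    rw [MonoidHom.range_comp, Subgroup.range_subtype, hΓ, genX, MonoidHom.map_closure, ChevalleyDatum.group]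
    congr 1
    ext g
    constructor
    · rintro ⟨_, ⟨r, hr, t, rfl⟩, rfl⟩
      refine ⟨⟨r, hr⟩, t, ?_⟩
      rw [MonoidHom.coe_snd, pairX_snd hr, ChevalleyDatum.x, dif_pos (show r < chevB2.nroots from hr)]
    · rintro ⟨r, t, e⟩
      refine ⟨_, ⟨r.val, r.isLt, t, rfl⟩, Units.ext ?_⟩
      rw [MonoidHom.coe_snd, pairX_snd r.isLt, ChevalleyDatum.x, dif_pos r.isLt, e]
  -- the map to the Chevalley group
  let π₂ : Γ →* ↥(chevB2.group F) := fsnd.codRestrict (chevB2.group F) fun g => hr2 ▸ ⟨g, rfl⟩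
  have hπ₂ : Function.Surjective π₂ := fun y => by
    obtain ⟨x, hx⟩ : (y : GL chevB2.Idx F) ∈ fsnd.range := by rw [hr2]; exact y.2
    exact ⟨x, Subtype.ext hx⟩
  obtain ⟨hsimp, hna⟩ := simple_B2 (F := F) hF
  have hπ₂ker : π₂.ker = fsnd.ker := MonoidHom.ker_codRestrict _ _ _
  have hker1 : ffst.ker = ⊥ := by
    have hn : (ffst.ker.map π₂).Normal := ffst.normal_ker.map π₂ hπ₂
    rcases hn.eq_bot_or_eq_top with h | h
    · rw [eq_bot_iff]
      intro x hx
      have hm : π₂ x ∈ (⊥ : Subgroup ↥(chevB2.group F)) := h ▸ Subgroup.mem_map_of_mem π₂ hx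
      have h1 : π₂ x = 1 := Subgroup.mem_bot.1 hm
      have h2 : fsnd x = 1 := congrArg Subtype.val h1
      rw [Subgroup.mem_bot]
      exact Subtype.ext (Prod.ext hx h2)
    · exfalso
      have hab : ∀ a b : Γ, Commute (ffst a) (ffst b) := by
        intro a b
        have hex : ∀ a : Γ, ∃ z ∈ Subgroup.center Γ, ffst a = ffst z := fun a => by
          obtain ⟨k, hk, e⟩ := Subgroup.mem_map.1 (h.symm ▸ Subgroup.mem_top (π₂ a))
          refine ⟨k⁻¹ * a, hker (hπ₂ker ▸ ?_), ?_⟩
          · rw [MonoidHom.mem_ker, map_mul, map_inv, e, inv_mul_cancel]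
          · rw [map_mul, map_inv, MonoidHom.mem_ker.1 hk, inv_one, one_mul]
        obtain ⟨za, hza, ea⟩ := hex a
        obtain ⟨zb, -, eb⟩ := hex b
        rw [ea, eb]
        have hc : Commute za zb := ((Subgroup.mem_center_iff.1 hza) zb).symm
        exact hc.map ffst
      have hE : ⁅elemGroup F, elemGroup F⁆ = ⊥ := by
        rw [Subgroup.commutator_eq_bot_iff_le_centralizer]
        intro a ha b hb
        obtain ⟨a, rfl⟩ := hr1.symm ▸ ha
        obtain ⟨b, rfl⟩ := hr1.symm ▸ (show b ∈ elemGroup F from hb)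
        exact (hab b a).eq
      have h4 := rootY_mem (F := F) (show 4 < 8 by norm_num) 1
      have h5 := rootY_mem (F := F) (show 5 < 8 by norm_num) 1
      have h0 := Subgroup.commutator_mem_commutator h4 h5
      rw [hE, Subgroup.mem_bot, commutatorElement_eq_one_iff_commute] at h0
      have h1 := congrArg (fun g : GL Idx5 F => mv g (mk5 0 0 0 1 0) (.inl ())) h0.eq
      simp only [mv_mul, mv_root4, mv_root5] at h1
      simp [mk5] at h1
  have hinj : Function.Injective ffst := (MonoidHom.ker_eq_bot_iff _).1 hker1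
  -- the group generated by the root elements
  let eE : Γ ≃* ↥(Cfsg.Omega F (Cfsg.quadFormOdd 2 F)) :=
    ((MonoidHom.ofInjective hinj).trans (MulEquiv.subgroupCongr hr1)).trans
      ((Subgroup.subgroupOfEquivOfLe elemGroup_le).symm.trans (MulEquiv.subgroupCongr (omega_eq hF).symm))
  let ψ : ↥(Cfsg.Omega F (Cfsg.quadFormOdd 2 F)) →* ↥(chevB2.group F) := π₂.comp eE.symm.toMonoidHom
  have hψ : Function.Surjective ψ := hπ₂.comp eE.symm.surjective
  have hψker : ψ.ker = Subgroup.center _ := by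
    ext x
    constructor
    · intro hx
      have h1 : eE.symm x ∈ π₂.ker := hx
      rw [hπ₂ker] at h1
      rw [Subgroup.mem_center_iff]
      intro g
      apply eE.symm.injective
      rw [map_mul, map_mul]
      exact Subgroup.mem_center_iff.1 (hker h1) _
    · intro hx
      rw [MonoidHom.mem_ker, ← Subgroup.mem_bot, ← center_group_eq_bot hF, Subgroup.mem_center_iff]
      intro g
      obtain ⟨y, rfl⟩ := hψ g
      rw [← map_mul, ← map_mul, Subgroup.mem_center_iff.1 hx y]
  exact ⟨(QuotientGroup.quotientKerEquivOfSurjective ψ hψ).symm.trans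
    (QuotientGroup.quotientMulEquivOfEq hψker)⟩

end Cfsg.Agent.Lib.B2Orth
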