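import Mathlib

/-!
Sparse five by five matrices with integer polynomial entries in two variables, with a decidable test of equality.
-/

set_option autoImplicit false

namespace Cfsg.Agent.Lib.B2Orth

/-- The coordinates `z; x₁ x₂; y₁ y₂`. -/
abbrev Idx5 : Type := Unit ⊕ (Fin 2 ⊕ Fin 2)

/-- The number of a coordinate. -/
def code : Idx5 → ℕ
  | .inl _ => 0
  | .inr (.inl i) => i.val + 1
  | .inr (.inr i) => i.val + 3

theorem code_injective : Function.Injective code := by decide

theorem exists_code : ∀ j : Fin 5, ∃ k, code k = j := by decide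

/-- A term `(a, b, i, j, c)`: the entry `(i, j)` gets `c t ^ a u ^ b`. -/
abbrev Term := ℕ × ℕ × ℕ × ℕ × ℤ

/-- Lists of terms. -/
abbrev PList := List Term

/-- The monomial of a term. -/
def key (p : Term) : ℕ × ℕ × ℕ × ℕ := (p.1, p.2.1, p.2.2.1, p.2.2.2.1)

/-- The coefficient of a term. -/
def cf (p : Term) : ℤ := p.2.2.2.2

variable {F : Type*} [Field F]

/-- The value of a term at an entry. -/
def evT (t u : F) (p : Term) (k l : Idx5) : F :=
  if p.2.2.1 = code k ∧ p.2.2.2.1 = code l then (cf p : F) * (t ^ p.1 * u ^ p.2.1) else 0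

/-- The value of a list. -/
def ev (t u : F) (L : PList) : Matrix Idx5 Idx5 F := Matrix.of fun k l => (L.map fun p => evT t u p k l).sum

theorem ev_apply (t u : F) (L : PList) (k l : Idx5) : ev t u L k l = (L.map fun p => evT t u p k l).sum := rfl

theorem ev_append (t u : F) (L L' : PList) : ev t u (L ++ L') = ev t u L + ev t u L' := by
  ext k l; simp [ev_apply]

theorem ev_cons (t u : F) (p : Term) (L : PList) : ev t u (p :: L) = ev t u [p] + ev t u L := by
  rw [← ev_append]; rfl

theorem ev_nil (t u : F) : ev t u [] = 0 := by ext k l; simp [ev_apply]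

/-- The product of two lists. -/
def mulL (L L' : PList) : PList :=
  L.flatMap fun p => (L'.filter fun q => Nat.beq p.2.2.2.1 q.2.2.1).map fun q =>
    (p.1 + q.1, p.2.1 + q.2.1, p.2.2.1, q.2.2.2.1, p.2.2.2.2 * q.2.2.2.2)

/-- Columns in range. -/
def inRange (L : PList) : Bool := L.all fun p => Nat.blt p.2.2.2.1 5

theorem ev_mul_single (t u : F) (p : Term) (hp : p.2.2.2.1 < 5) : ∀ L' : PList,
    ev t u ((L'.filter fun q => Nat.beq p.2.2.2.1 q.2.2.1).map fun q =>
      ((p.1 + q.1, p.2.1 + q.2.1, p.2.2.1, q.2.2.2.1, p.2.2.2.2 * q.2.2.2.2) : Term)) = ev t u [p] * ev t u L'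
  | [] => by simp [ev_nil]
  | q :: L' => by
    have ih := ev_mul_single t u p hp L'
    obtain ⟨m, hm⟩ := exists_code ⟨_, hp⟩
    have hone : ∀ k l, (ev t u [p] * ev t u [q] : Matrix Idx5 Idx5 F) k l = evT t u p k m * evT t u q m l := by
      intro k l
      rw [Matrix.mul_apply, Finset.sum_eq_single m]
      · simp [ev_apply]
      · intro b _ hb
        have : p.2.2.2.1 ≠ code b := fun e => hb (code_injective (e.symm.trans hm.symm))
        simp [ev_apply, evT, this]
      · simp
    rw [ev_cons t u q, mul_add, ← ih]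
    by_cases h : p.2.2.2.1 = q.2.2.1
    · rw [List.filter_cons_of_pos (by simp [h]), List.map_cons, ev_cons]
      congr 1
      ext k l
      rw [hone, ev_apply]
      simp only [List.map_cons, List.map_nil, List.sum_cons, List.sum_nil, add_zero, evT, cf]
      have hq : q.2.2.1 = code m := h.symm.trans hm.symm
      have hp' : p.2.2.2.1 = code m := hm.symm
      simp only [hq, hp', and_true, true_and]
      split_ifs <;> first | (exfalso; tauto) | (push_cast [pow_add]; ring1) | simp
    · rw [List.filter_cons_of_neg (by simp [h])]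
      have : ev t u [p] * ev t u [q] = 0 := by
        ext k l
        rw [hone]
        have hq : q.2.2.1 ≠ code m := fun e => h (hm.symm.trans e.symm)
        simp [evT, hq]
      rw [this, zero_add]

theorem ev_mulL (t u : F) : ∀ L L' : PList, inRange L = true → ev t u (mulL L L') = ev t u L * ev t u L'
  | [], L', _ => by simp [mulL, ev_nil]
  | p :: L, L', h => by
    simp only [inRange, List.all_cons, Bool.and_eq_true, Nat.blt_eq] at h
    rw [show mulL (p :: L) L' = ((L'.filter fun q => Nat.beq p.2.2.2.1 q.2.2.1).map fun q =>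
      ((p.1 + q.1, p.2.1 + q.2.1, p.2.2.1, q.2.2.2.1, p.2.2.2.2 * q.2.2.2.2) : Term)) ++ mulL L L' from rfl,
      ev_append, ev_mul_single t u p h.1, ev_mulL t u L L' h.2, ev_cons t u p L, add_mul]

/-- The identity. -/
def oneL : PList := [(0, 0, 0, 0, 1), (0, 0, 1, 1, 1), (0, 0, 2, 2, 1), (0, 0, 3, 3, 1), (0, 0, 4, 4, 1)]

theorem ev_oneL (t u : F) : ev t u oneL = 1 := by
  ext k l
  rcases k with _ | i | i <;> rcases l with _ | j | j
  all_goals try fin_cases i
  all_goals try fin_cases j
  all_goals simp [ev_apply, oneL, evT, cf, code, Matrix.one_apply]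

/-- The product of a list of lists. -/
def prodL (l : List PList) : PList := l.foldr mulL oneL

theorem ev_prodL (t u : F) : ∀ l : List PList, (∀ L ∈ l, inRange L = true) →
    ev t u (prodL l) = (l.map (ev t u)).prod
  | [], _ => by simp [prodL, ev_oneL]
  | a :: l, h => by
    rw [prodL, List.foldr_cons, ev_mulL t u _ _ (h a List.mem_cons_self), List.map_cons, List.prod_cons,
      ← prodL, ev_prodL t u l fun L hL => h L (List.mem_cons_of_mem _ hL)]

/-- The coefficient of a monomial. -/
def coefL (L : PList) (k : ℕ × ℕ × ℕ × ℕ) : ℤ := ((L.filter fun p => decide (key p = k)).map cf).sum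

/-- The negated list. -/
def negL (L : PList) : PList := L.map fun p => (p.1, p.2.1, p.2.2.1, p.2.2.2.1, -p.2.2.2.2)

theorem ev_negL (t u : F) : ∀ L : PList, ev t u (negL L) = -ev t u L
  | [] => by simp [negL, ev_nil]
  | p :: L => by
    rw [show negL (p :: L) = (p.1, p.2.1, p.2.2.1, p.2.2.2.1, -p.2.2.2.2) :: negL L from rfl, ev_cons,
      ev_negL t u L, ev_cons t u p L, neg_add]
    congr 1
    ext k l
    simp [ev_apply, evT, cf, apply_ite (Neg.neg : F → F)]

/-- Equality test. -/
def eqL (L L' : PList) : Bool := (L ++ negL L').all fun p => decide (coefL (L ++ negL L') (key p) = 0)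

theorem ev_eq_sum (t u : F) (k l : Idx5) (S : Finset (ℕ × ℕ × ℕ × ℕ)) : ∀ L : PList, (∀ p ∈ L, key p ∈ S) →
    ev t u L k l = ∑ κ ∈ S,
      (coefL L κ : F) * (if κ.2.2.1 = code k ∧ κ.2.2.2 = code l then t ^ κ.1 * u ^ κ.2.1 else 0)
  | [], _ => by simp [ev_apply, coefL]
  | p :: L, h => by
    rw [ev_cons, Matrix.add_apply, ev_eq_sum t u k l S L fun q hq => h q (List.mem_cons_of_mem _ hq)]
    have e : ∀ κ, (coefL (p :: L) κ : F) = (if key p = κ then (cf p : F) else 0) + (coefL L κ : F) := by
      intro κ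
      by_cases hk : key p = κ <;> simp [coefL, hk]
    simp only [e, add_mul, Finset.sum_add_distrib]
    congr 1
    rw [Finset.sum_eq_single (key p) (fun κ _ hκ => by rw [if_neg (Ne.symm hκ), zero_mul])
      (fun hn => absurd (h p List.mem_cons_self) hn)]
    rw [if_pos rfl]
    simp only [ev_apply, evT, key, List.map_cons, List.map_nil, List.sum_cons, List.sum_nil, add_zero]
    split_ifs <;> simp [*]

theorem ev_eq_zero (t u : F) {L : PList} (h : ∀ p ∈ L, coefL L (key p) = 0) : ev t u L = 0 := by
  ext k l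
  rw [ev_eq_sum t u k l (L.map key).toFinset L fun p hp => List.mem_toFinset.2 (List.mem_map_of_mem hp),
    Matrix.zero_apply]
  refine Finset.sum_eq_zero fun κ hκ => ?_
  obtain ⟨p, hp, rfl⟩ := List.mem_map.1 (List.mem_toFinset.1 hκ)
  rw [h p hp, Int.cast_zero, zero_mul]

theorem ev_eq_of_eqL {L L' : PList} (h : eqL L L' = true) (t u : F) : ev t u L = ev t u L' := by
  simp only [eqL, List.all_eq_true, decide_eq_true_eq] at h
  have := ev_eq_zero t u (L := L ++ negL L') h
  rwa [ev_append, ev_negL, add_neg_eq_zero] at this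

end Cfsg.Agent.Lib.B2Orth
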