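import Cfsg.Agent.Lib.Chev.Perfect
import Cfsg.Agent.Lib.B2Orth.PolyTwo

/-!
An integer model of the root elements of type `B2` in the orthogonal group of dimension five.
-/

set_option autoImplicit false

namespace Cfsg.Agent.Lib.B2Orth

open Cfsg.Lie Cfsg.Agent.Lib.Chev

/-- The linear parts `(row, column, coefficient)`. -/
def linTab : List (List (ℕ × ℕ × ℤ)) :=
  [[(3, 2, -1), (4, 1, 1)], [(0, 1, -1), (3, 0, 2)], [(0, 2, -1), (4, 0, 2)], [(2, 1, 1), (3, 4, -1)],
    [(1, 2, 1), (4, 3, -1)], [(0, 4, 1), (2, 0, -2)], [(0, 3, 1), (1, 0, -2)], [(1, 4, 1), (2, 3, -1)]]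

/-- The quadratic parts. -/
def quadTab : List (List (ℕ × ℕ × ℤ)) :=
  [[], [(3, 1, -1)], [(4, 2, -1)], [], [], [(2, 4, -1)], [(1, 3, -1)], []]

/-- Entries of the linear part. -/
def linOf (r : ℕ) : List (ℕ × ℕ × ℤ) := linTab.getD r []

/-- Entries of the quadratic part. -/
def quadOf (r : ℕ) : List (ℕ × ℕ × ℤ) := quadTab.getD r []

/-- Entries as terms with fixed exponents. -/
def atExp (a b : ℕ) (m : ℤ) (l : List (ℕ × ℕ × ℤ)) : PList := l.map fun e => (a, b, e.1, e.2.1, m * e.2.2)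

/-- The terms of `x_r(m t^i u^j)`. -/
def xl (r : ℕ) (m : ℤ) (i j : ℕ) : PList :=
  oneL ++ (atExp i j m (linOf r) ++ atExp (2 * i) (2 * j) (m * m) (quadOf r))

/-- The opposite root. -/
def opp (r : ℕ) : ℕ := 7 - r

theorem ng_eq : ∀ r : Fin 8, ng chevB2 r = opp r := by decide +kernel

theorem inRange_xl : ∀ r : Fin 8, ((linOf r ++ quadOf r).all fun e => Nat.blt e.2.1 5) = true := by decide +kernel

/-- `x_r(t + u)`. -/
def xlAdd (r : ℕ) : PList :=
  oneL ++ (atExp 1 0 1 (linOf r) ++ atExp 0 1 1 (linOf r) ++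
    atExp 2 0 1 (quadOf r) ++ atExp 1 1 2 (quadOf r) ++ atExp 0 2 1 (quadOf r))

theorem add_table : ∀ r : Fin 8, eqL (mulL (xl r 1 1 0) (xl r 1 0 1)) (xlAdd r) = true := by decide +kernel

/-- The commutation table. -/
def commOK (r s : ℕ) : Bool :=
  eqL (mulL (xl s 1 0 1) (xl r 1 1 0))
    (prodL (xl r 1 1 0 :: xl s 1 0 1 ::
      (cTerms B2.cert r s).map fun c => xl c.1 (c.2.1 * (-1) ^ c.2.2.1) c.2.2.1 c.2.2.2))

theorem comm_table : ∀ r s : Fin 8, s.val = r.val ∨ s.val = opp r ∨ commOK r s = true := by decide +kernel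

/-- The terms of `n_r(1)`. -/
def nList (r : ℕ) : PList := prodL [xl r 1 0 0, xl (opp r) (-1) 0 0, xl r 1 0 0]

theorem nInt_table : ∀ i : Fin 2, ∀ s : Fin 8,
    eqL (mulL (nList (chevB2.simple i)) (xl s 1 1 0))
      (mulL (xl (refl B2.cert i s) (eta B2.cert i s) 1 0) (nList (chevB2.simple i))) = true := by decide +kernel

theorem inRange_n : ∀ i : Fin 2, inRange (nList (chevB2.simple i)) = true := by decide +kernel

/-- The weight of a coordinate on an axis. -/
def wtN (a : Fin 2) (n : ℕ) : ℤ := if n = a.val + 1 then 1 else if n = a.val + 3 then -1 else 0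

/-- The weight of a root on an axis. -/
def rwt (a : Fin 2) (r : ℕ) : ℤ :=
  if a = 0 then [-1, -1, 0, -1, 1, 0, 1, 1].getD r 0 else [-1, 0, -1, 1, -1, 1, 0, 1].getD r 0

/-- The axis used for a fundamental root. -/
def axis (i : ℕ) : Fin 2 := if i = 0 then 1 else 0

theorem support_dec : ∀ a : Fin 2, ∀ r : Fin 8,
    ((linOf r).all fun e => wtN a e.1 - wtN a e.2.1 == rwt a r) = true ∧
      ((quadOf r).all fun e => wtN a e.1 - wtN a e.2.1 == 2 * rwt a r) = true := by decide +kernel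

theorem axis_dec : ∀ i : Fin 2,
    rwt (axis i) (chevB2.simple i) = 1 ∧ rwt (axis i) (opp (chevB2.simple i)) = -1 := by decide +kernel

theorem cartan_dec : ∀ i : Fin 2, ∀ s : Fin 8,
    rwt (axis i) (refl B2.cert i s) - rwt (axis i) s = chevB2.cartan i (refl B2.cert i s) := by decide +kernel

theorem rwt_ne : ∀ r : Fin 8, ∃ a : Fin 2, rwt a r = 1 ∨ rwt a r = -1 := by decide +kernel

/-- `n_5(1)`. -/
def flipL : PList := [(0, 0, 0, 0, -1), (0, 0, 1, 1, 1), (0, 0, 3, 3, 1), (0, 0, 2, 4, -1), (0, 0, 4, 2, -1)]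

theorem flip_eq : eqL (nList 5) flipL = true := by decide +kernel

/-- The exchange of `x₂` and `y₂`. -/
def swapL : PList := [(0, 0, 0, 0, 1), (0, 0, 1, 1, 1), (0, 0, 3, 3, 1), (0, 0, 2, 4, 1), (0, 0, 4, 2, 1)]

/-- The sign of `z`. -/
def signL : PList := [(0, 0, 0, 0, -1), (0, 0, 1, 1, 1), (0, 0, 2, 2, 1), (0, 0, 3, 3, 1), (0, 0, 4, 4, 1)]

/-- A sign. -/
def sgnZ (σ : Bool) : ℤ := if σ then 1 else -1

theorem swap_root : ∀ r : Fin 8, ∃ r' : Fin 8, ∃ σ : Bool,
    eqL (mulL swapL (xl r 1 1 0)) (mulL (xl r' (sgnZ σ) 1 0) swapL) = true := by decide +kernel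

theorem sign_root : ∀ r : Fin 8, ∃ σ : Bool,
    eqL (mulL signL (xl r 1 1 0)) (mulL (xl r (sgnZ σ) 1 0) signL) = true := by decide +kernel

theorem swap_sq : eqL (mulL swapL swapL) oneL = true := by decide +kernel

theorem sign_sq : eqL (mulL signL signL) oneL = true := by decide +kernel

theorem sign_swap : eqL (mulL signL swapL) (mulL swapL signL) = true := by decide +kernel

end Cfsg.Agent.Lib.B2Orth
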