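import Cfsg.Agent.Lib.B2Orth.Elementary

/-!
The group generated by the root elements is the commutator subgroup of the isometry group, over a field with more
than two elements.
-/

set_option autoImplicit false

namespace Cfsg.Agent.Lib.B2Orth

open Cfsg.Lie Cfsg.Agent.Lib.Chev
open Matrix
open scoped commutatorElement

variable {F : Type*} [Field F]

theorem ev_swapL (t u : F) : ev t u swapL = ev 1 1 swapL := by
  ext k l; simp [ev_apply, evT, cf, swapL]

theorem ev_signL (t u : F) : ev t u signL = ev 1 1 signL := by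
  ext k l; simp [ev_apply, evT, cf, signL]

theorem ev_flipL (t u : F) : ev t u flipL = ev 1 1 flipL := by
  ext k l; simp [ev_apply, evT, cf, flipL]

theorem swapGL_mul_rootY {r : ℕ} (hr : r < 8) (t : F) :
    ∃ r' < 8, ∃ t' : F, swapGL F * rootY F r t = rootY F r' t' * swapGL F := by
  obtain ⟨r', σ, h⟩ := swap_root ⟨r, hr⟩
  have h' := ev_eq_of_eqL h t (1 : F)
  rw [ev_mulL _ _ _ _ (by decide), ev_mulL _ _ _ _ (inRange_xl' r'.isLt _ _ _), ev_swapL, ev_xl, ev_xl] at h'
  simp only [Int.cast_one, pow_one, pow_zero, mul_one, one_mul] at h'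
  refine ⟨r', r'.isLt, (sgnZ σ : F) * t, ?_⟩
  ext1
  rw [Units.val_mul, Units.val_mul, coe_rootY hr, coe_rootY r'.isLt]
  exact h'

theorem signGL_mul_rootY {r : ℕ} (hr : r < 8) (t : F) :
    ∃ t' : F, signGL F * rootY F r t = rootY F r t' * signGL F := by
  obtain ⟨σ, h⟩ := sign_root ⟨r, hr⟩
  have h' := ev_eq_of_eqL h t (1 : F)
  rw [ev_mulL _ _ _ _ (by decide), ev_mulL _ _ _ _ (inRange_xl' hr _ _ _), ev_signL, ev_xl, ev_xl] at h'
  simp only [Int.cast_one, pow_one, pow_zero, mul_one, one_mul] at h'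
  refine ⟨(sgnZ σ : F) * t, ?_⟩
  ext1
  rw [Units.val_mul, Units.val_mul, coe_rootY hr, coe_rootY hr]
  exact h'

theorem signGL_mul_swapGL : signGL F * swapGL F = swapGL F * signGL F := by
  have h := ev_eq_of_eqL sign_swap (1 : F) 1
  rw [ev_mulL _ _ _ _ (by decide), ev_mulL _ _ _ _ (by decide)] at h
  exact Units.ext h

theorem swapGL_mul_scal (a : Fˣ) : swapGL F * scalGL F 1 a = scalGL F 1 a⁻¹ * swapGL F :=
  eq_of_mv fun v => by
    obtain ⟨z, x, y, p, q, rfl⟩ := exists_mk5 v
    rw [mv_mul, mv_mul, mv_scal1, mv_swapGL, mv_swapGL, mv_scal1, Units.val_inv_eq_inv_val, inv_inv]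

theorem signGL_mul_scal (a : Fˣ) : signGL F * scalGL F 1 a = scalGL F 1 a * signGL F :=
  eq_of_mv fun v => by
    obtain ⟨z, x, y, p, q, rfl⟩ := exists_mk5 v
    rw [mv_mul, mv_mul, mv_scal1, mv_signGL, mv_signGL, mv_scal1]

theorem rootN_five_mul_scal (c : Fˣ) : rootN F 5 1 * scalGL F 1 c = scalGL F 1 c⁻¹ * rootN F 5 1 := by
  ext1
  rw [Units.val_mul, Units.val_mul, coe_rootN_one (by norm_num) 1 1, ev_eq_of_eqL flip_eq, coe_scalGL, coe_scalGL,
    scal, scal]
  ext k l
  rw [Matrix.mul_diagonal, Matrix.diagonal_mul]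
  rcases k with ⟨⟩ | i | i <;> rcases l with ⟨⟩ | j | j <;> (try fin_cases i) <;> (try fin_cases j) <;>
    simp [flipL, ev_apply, evT, cf, code, wtN]

theorem scal_sq_mem (c : Fˣ) : scalGL F 1 (c * c) ∈ elemGroup F := by
  have hn : ∀ u : F, rootN F 5 u ∈ elemGroup F := fun u =>
    mul_mem (mul_mem (rootY_mem (by norm_num) _) (rootY_mem (by decide) _)) (rootY_mem (by norm_num) _)
  have h := rootN_eq_conj (F := F) (show 5 < 8 by norm_num) 1 (by decide) (by decide) c
  have hinv : scalGL F 1 c⁻¹ = (scalGL F 1 c)⁻¹ := by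
    refine eq_inv_of_mul_eq_one_left ?_
    rw [scalGL_mul, inv_mul_cancel]
    exact Units.ext (scal_one 1)
  have key : rootN F 5 (c : F) = scalGL F 1 (c * c) * rootN F 5 1 := by
    rw [eq_mul_inv_of_mul_eq h, ← hinv, mul_assoc, rootN_five_mul_scal, inv_inv, ← mul_assoc, scalGL_mul]
  rw [eq_mul_inv_of_mul_eq key.symm]
  exact mul_mem (hn _) (inv_mem (hn _))

theorem conj_mem {n : GL Idx5 F} (hn : ∀ r < 8, ∀ t : F, n * rootY F r t * n⁻¹ ∈ elemGroup F) :
    ∀ g ∈ elemGroup F, n * g * n⁻¹ ∈ elemGroup F := by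
  intro g hg
  have : elemGroup F ≤ (elemGroup F).comap (MulAut.conj n).toMonoidHom := by
    refine (Subgroup.closure_le _).2 ?_
    rintro _ ⟨r, t, hr, rfl⟩
    exact hn r hr t
  exact this hg

theorem fullGroup_le_normalizer : fullGroup F ≤ Subgroup.normalizer (elemGroup F : Set (GL Idx5 F)) := by
  refine sup_le Subgroup.le_normalizer ((Subgroup.closure_le _).2 ?_)
  have hscal : ∀ (u : Fˣ), ∀ g ∈ elemGroup F, scalGL F 1 u * g * (scalGL F 1 u)⁻¹ ∈ elemGroup F := fun u =>
    conj_mem fun r hr t => by rw [scal_conj hr, mul_inv_cancel_right]; exact rootY_mem hr _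
  have both : ∀ n n' : GL Idx5 F, n * n' = 1 → (∀ g ∈ elemGroup F, n * g * n⁻¹ ∈ elemGroup F) →
      (∀ g ∈ elemGroup F, n' * g * n'⁻¹ ∈ elemGroup F) →
      n ∈ Subgroup.normalizer (elemGroup F : Set (GL Idx5 F)) := by
    intro n n' e h h'
    have e' : n' = n⁻¹ := eq_inv_of_mul_eq_one_right e
    refine Subgroup.mem_normalizer_iff.2 fun g => ⟨h g, fun hg => ?_⟩
    have := h' _ hg
    rw [e'] at this
    simpa [mul_assoc] using this
  rintro n (rfl | rfl | ⟨u, rfl⟩)
  · have hs := conj_mem (n := swapGL F) fun r hr t => by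
      obtain ⟨r', hr', t', e⟩ := swapGL_mul_rootY hr t
      rw [e, mul_inv_cancel_right]
      exact rootY_mem hr' _
    exact both _ (swapGL F) (Units.ext (swapGL F).val_inv) hs hs
  · have hs := conj_mem (n := signGL F) fun r hr t => by
      obtain ⟨t', e⟩ := signGL_mul_rootY hr t
      rw [e, mul_inv_cancel_right]
      exact rootY_mem hr _
    exact both _ (signGL F) (Units.ext (signGL F).val_inv) hs hs
  · refine both _ (scalGL F 1 u⁻¹) ?_ (hscal u) (hscal u⁻¹)
    rw [scalGL_mul, mul_inv_cancel]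
    exact Units.ext (scal_one 1)

variable (F) in
/-- The elementary group inside the isometry group. -/
def elemSub : Subgroup ↥(Cfsg.isometryGroup F (Cfsg.quadFormOdd 2 F)) :=
  (elemGroup F).subgroupOf (Cfsg.isometryGroup F (Cfsg.quadFormOdd 2 F))

theorem elemSub_normal : (elemSub F).Normal :=
  ⟨fun x hx g => (Subgroup.mem_normalizer_iff.1 (fullGroup_le_normalizer (isometry_le_full g.2)) x).1 hx⟩

/-- A subgroup of the isometry group containing all the generators is everything. -/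
theorem eq_top_of_gens {P : Subgroup ↥(Cfsg.isometryGroup F (Cfsg.quadFormOdd 2 F))} (hE : elemSub F ≤ P)
    (hw : ⟨swapGL F, swapGL_isometry⟩ ∈ P) (hs : ⟨signGL F, signGL_isometry⟩ ∈ P)
    (ht : ∀ u : Fˣ, ⟨scalGL F 1 u, scalGL_isometry 1 u⟩ ∈ P) : P = ⊤ := by
  have h : fullGroup F ≤ P.map (Cfsg.isometryGroup F (Cfsg.quadFormOdd 2 F)).subtype := by
    refine sup_le ?_ ((Subgroup.closure_le _).2 ?_)
    · intro g hg
      exact ⟨⟨g, elemGroup_le hg⟩, hE (Subgroup.mem_subgroupOf.2 hg), rfl⟩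
    · rintro _ (rfl | rfl | ⟨u, rfl⟩)
      exacts [⟨_, hw, rfl⟩, ⟨_, hs, rfl⟩, ⟨_, ht u, rfl⟩]
  rw [eq_top_iff]
  intro g _
  obtain ⟨g', hg', e⟩ := h (isometry_le_full g.2)
  rwa [← Subtype.ext e]

theorem rootY_eq_commutator (hF : ∃ a : F, a ≠ 0 ∧ a ≠ 1) {r : ℕ} (hr : r < 8) (t : F) :
    ∃ (i : Fin 2) (u : Fˣ) (s : F), rootY F r t = ⁅scalGL F i u, rootY F r s⁆ := by
  obtain ⟨x, h0, h1⟩ := hF
  obtain ⟨i, hi⟩ := rwt_ne ⟨r, hr⟩
  set u := Units.mk0 x h0 with hu
  set k : F := ((u ^ rwt i r : Fˣ) : F) with hk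
  have hk1 : k - 1 ≠ 0 := by
    rw [sub_ne_zero, hk]
    rcases hi with e | e <;> simp only at e <;> rw [e]
    · simpa [hu] using h1
    · simpa [hu] using h1
  refine ⟨i, u, t / (k - 1), ?_⟩
  rw [commutatorElement_def, scal_conj hr, mul_inv_cancel_right, rootY_inv hr, rootY_add hr, ← hk]
  congr 1
  field_simp
  ring

theorem omega_eq (hF : ∃ a : F, a ≠ 0 ∧ a ≠ 1) : Cfsg.Omega F (Cfsg.quadFormOdd 2 F) = elemSub F := by
  apply le_antisymm
  · haveI := elemSub_normal (F := F)
    let q := QuotientGroup.mk' (elemSub F)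
    let W : ↥(Cfsg.isometryGroup F (Cfsg.quadFormOdd 2 F)) := ⟨swapGL F, swapGL_isometry⟩
    let S : ↥(Cfsg.isometryGroup F (Cfsg.quadFormOdd 2 F)) := ⟨signGL F, signGL_isometry⟩
    let T : Fˣ → ↥(Cfsg.isometryGroup F (Cfsg.quadFormOdd 2 F)) := fun u =>
      ⟨scalGL F 1 u, scalGL_isometry 1 u⟩
    have hTm : ∀ a b, q (T a) * q (T b) = q (T (a * b)) := fun a b => by
      rw [← map_mul]; congr 1; exact Subtype.ext (scalGL_mul _ _ _)
    have hTinv : ∀ a, q (T a⁻¹) = q (T a) := fun a => by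
      have h1 : q (T (a * a)) = 1 := by
        simp only [q, QuotientGroup.mk'_apply, QuotientGroup.eq_one_iff]
        exact Subgroup.mem_subgroupOf.2 (scal_sq_mem a)
      rw [← mul_one (q (T a⁻¹)), ← h1, hTm, inv_mul_cancel_left]
    have cWT : ∀ a, Commute (q W) (q (T a)) := fun a => by
      have : q W * q (T a) = q (T a⁻¹) * q W := by
        rw [← map_mul, ← map_mul]; congr 1; exact Subtype.ext (swapGL_mul_scal a)
      rw [hTinv] at this
      exact this
    have cST : ∀ a, Commute (q S) (q (T a)) := fun a => by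
      show q S * q (T a) = q (T a) * q S
      rw [← map_mul, ← map_mul]; congr 1; exact Subtype.ext (signGL_mul_scal a)
    have cSW : Commute (q S) (q W) := by
      show q S * q W = q W * q S
      rw [← map_mul, ← map_mul]; congr 1; exact Subtype.ext signGL_mul_swapGL
    have cTT : ∀ a b, Commute (q (T a)) (q (T b)) := fun a b => by
      show _ = _
      rw [hTm, hTm, mul_comm a b]
    -- each generator has central image
    have central : ∀ y, Commute (q y) (q W) → Commute (q y) (q S) → (∀ u, Commute (q y) (q (T u))) →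
        y ∈ (Subgroup.center _).comap q := by
      intro y h1 h2 h3
      have h : (Subgroup.centralizer {q y}).comap q = ⊤ := eq_top_of_gens
        (fun e he => by
          rw [Subgroup.mem_comap, show q e = 1 from (QuotientGroup.eq_one_iff e).2 he]
          exact one_mem _)
        (Subgroup.mem_comap.2 (Subgroup.mem_centralizer_singleton_iff.2 h1.symm.eq))
        (Subgroup.mem_comap.2 (Subgroup.mem_centralizer_singleton_iff.2 h2.symm.eq))
        (fun u => Subgroup.mem_comap.2 (Subgroup.mem_centralizer_singleton_iff.2 (h3 u).symm.eq))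
      rw [Subgroup.mem_comap, Subgroup.mem_center_iff]
      intro z
      obtain ⟨x, rfl⟩ := QuotientGroup.mk'_surjective _ z
      exact Subgroup.mem_centralizer_singleton_iff.1 (Subgroup.mem_comap.1 (h ▸ Subgroup.mem_top x))
    have hall : (Subgroup.center _).comap q = ⊤ := eq_top_of_gens
      (fun e he => by
        rw [Subgroup.mem_comap, show q e = 1 from (QuotientGroup.eq_one_iff e).2 he]
        exact one_mem _)
      (central W (Commute.refl _) cSW.symm cWT) (central S cSW (Commute.refl _) cST)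
      (fun u => central (T u) (cWT u).symm (cST u).symm (cTT u))
    rw [Cfsg.Omega, commutator_def, Subgroup.commutator_le]
    intro g _ h _
    rw [← QuotientGroup.eq_one_iff]
    change q ⁅g, h⁆ = 1
    rw [map_commutatorElement, commutatorElement_eq_one_iff_commute]
    exact (Subgroup.mem_center_iff.1 (Subgroup.mem_comap.1 (hall ▸ Subgroup.mem_top g)) (q h)).symm
  · intro g hg
    have h : elemGroup F ≤ (Cfsg.Omega F (Cfsg.quadFormOdd 2 F)).map
        (Cfsg.isometryGroup F (Cfsg.quadFormOdd 2 F)).subtype := by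
      refine (Subgroup.closure_le _).2 ?_
      rintro _ ⟨r, t, hr, rfl⟩
      obtain ⟨i, u, s, e⟩ := rootY_eq_commutator hF hr t
      refine ⟨⁅(⟨scalGL F i u, scalGL_isometry i u⟩ : ↥(Cfsg.isometryGroup F (Cfsg.quadFormOdd 2 F))),
        (⟨rootY F r s, rootY_isometry hr s⟩ : ↥(Cfsg.isometryGroup F (Cfsg.quadFormOdd 2 F)))⁆, ?_, e.symm⟩
      change _ ∈ commutator _
      rw [commutator_def]
      exact Subgroup.commutator_mem_commutator (Subgroup.mem_top _) (Subgroup.mem_top _)
    obtain ⟨g', hg', e⟩ := h (Subgroup.mem_subgroupOf.1 hg)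
    rwa [← Subtype.ext e]

end Cfsg.Agent.Lib.B2Orth
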