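import Cfsg.Agent.Lib.B2Orth.Model

/-!
The root elements of type `B2` in `GL₅` over a field, and their relations.
-/

set_option autoImplicit false

namespace Cfsg.Agent.Lib.B2Orth

open Cfsg.Lie Cfsg.Agent.Lib.Chev
open Matrix

variable (F : Type*) [Field F]

/-- The matrix with given integer entries. -/
def entM (l : List (ℕ × ℕ × ℤ)) : Matrix Idx5 Idx5 F := ev 1 1 (atExp 0 0 1 l)

variable {F}

theorem ev_atExp (t u : F) (a b : ℕ) (m : ℤ) : ∀ l : List (ℕ × ℕ × ℤ),
    ev t u (atExp a b m l) = ((m : F) * (t ^ a * u ^ b)) • entM F l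
  | [] => by simp [atExp, entM, ev_nil]
  | e :: l => by
    rw [show atExp a b m (e :: l) = (a, b, e.1, e.2.1, m * e.2.2) :: atExp a b m l from rfl, ev_cons,
      ev_atExp t u a b m l, show entM F (e :: l) = ev 1 1 [((0 : ℕ), (0 : ℕ), e.1, e.2.1, (1 : ℤ) * e.2.2)] + entM F l
        from ev_cons _ _ _ _, smul_add]
    congr 1
    ext k l
    simp only [ev_apply, evT, cf, List.map_cons, List.map_nil, List.sum_cons, List.sum_nil, add_zero,
      Matrix.smul_apply, smul_eq_mul]
    split_ifs <;> simp <;> ring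

variable (F) in
/-- The matrix of `x_r(t)`. -/
def X5 (r : ℕ) (t : F) : Matrix Idx5 Idx5 F := 1 + t • entM F (linOf r) + (t * t) • entM F (quadOf r)

theorem ev_xl (t u : F) (r : ℕ) (m : ℤ) (i j : ℕ) :
    ev t u (xl r m i j) = X5 F r ((m : F) * (t ^ i * u ^ j)) := by
  rw [xl, ev_append, ev_append, ev_oneL, ev_atExp, ev_atExp, X5, ← add_assoc]
  congr 2
  push_cast
  ring

theorem inRange_xl' {r : ℕ} (hr : r < 8) (m : ℤ) (i j : ℕ) : inRange (xl r m i j) = true := by
  have h := inRange_xl ⟨r, hr⟩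
  simp only [List.all_append, Bool.and_eq_true, List.all_eq_true] at h
  simp only [inRange, xl, atExp, List.all_append, List.all_map, Bool.and_eq_true, List.all_eq_true]
  exact ⟨by decide, h.1, h.2⟩

theorem X5_mul {r : ℕ} (hr : r < 8) (t u : F) : X5 F r t * X5 F r u = X5 F r (t + u) := by
  have h := ev_eq_of_eqL (add_table ⟨r, hr⟩) t u
  rw [ev_mulL _ _ _ _ (inRange_xl' hr 1 1 0), ev_xl, ev_xl] at h
  simp only [Int.cast_one, pow_one, pow_zero, mul_one, one_mul] at h
  rw [h]
  simp only [xlAdd, ev_append, ev_oneL, ev_atExp, X5]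
  push_cast
  simp only [pow_one, pow_zero, mul_one, one_mul]
  module

theorem X5_zero (r : ℕ) : X5 F r 0 = 1 := by simp [X5]

variable (F) in
/-- The root element `y_r(t)`. -/
def rootY (r : ℕ) (t : F) : GL Idx5 F :=
  if hr : r < 8 then ⟨X5 F r t, X5 F r (-t),
    by rw [X5_mul hr, add_neg_cancel, X5_zero], by rw [X5_mul hr, neg_add_cancel, X5_zero]⟩
  else 1

theorem coe_rootY {r : ℕ} (hr : r < 8) (t : F) : (rootY F r t : Matrix Idx5 Idx5 F) = X5 F r t := by
  rw [rootY, dif_pos hr]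

theorem rootY_add {r : ℕ} (hr : r < 8) (t u : F) : rootY F r t * rootY F r u = rootY F r (t + u) := by
  ext1
  rw [Units.val_mul, coe_rootY hr, coe_rootY hr, coe_rootY hr, X5_mul hr]

theorem rootY_zero {r : ℕ} (hr : r < 8) : rootY F r (0 : F) = 1 := by
  ext1
  rw [coe_rootY hr, X5_zero, Units.val_one]

theorem rootY_inv {r : ℕ} (hr : r < 8) (t : F) : (rootY F r t)⁻¹ = rootY F r (-t) := by
  rw [inv_eq_iff_mul_eq_one, rootY_add hr, add_neg_cancel, rootY_zero hr]

/-- The commutator formula. -/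
theorem rootY_comm {r s : ℕ} (hr : r < 8) (hs : s < 8) (h1 : s ≠ r) (h2 : s ≠ opp r) (t u : F) :
    rootY F s u * rootY F r t =
      rootY F r t * rootY F s u * ((chevB2.commWord F r s t u).map fun p => rootY F p.1 p.2).prod := by
  have hc := checked_B2
  have hok : commOK r s = true := ((comm_table ⟨r, hr⟩ ⟨s, hs⟩).resolve_left h1).resolve_left h2
  have hlt : ∀ c ∈ cTerms B2.cert r s, c.1 < 8 := fun c h =>
    hc.cTerms_lt (show r < chevB2.nroots from hr) (show s < chevB2.nroots from hs) c h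
  have h := ev_eq_of_eqL hok t u
  have hin : ∀ L ∈ (xl r 1 1 0 :: xl s 1 0 1 ::
      (cTerms B2.cert r s).map fun c => xl c.1 (c.2.1 * (-1) ^ c.2.2.1) c.2.2.1 c.2.2.2), inRange L = true := by
    intro L hL
    simp only [List.mem_cons, List.mem_map] at hL
    rcases hL with rfl | rfl | ⟨c, hc', rfl⟩
    · exact inRange_xl' hr _ _ _
    · exact inRange_xl' hs _ _ _
    · exact inRange_xl' (hlt c hc') _ _ _
  rw [ev_mulL _ _ _ _ (inRange_xl' hs _ _ _), ev_prodL _ _ _ hin, List.map_cons, List.map_cons, List.prod_cons,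
    List.prod_cons, ev_xl, ev_xl, List.map_map] at h
  simp only [Int.cast_one, pow_one, pow_zero, mul_one, one_mul] at h
  rw [hc.commWord_eq (show r < chevB2.nroots from hr) (show s < chevB2.nroots from hs), List.map_map]
  ext1
  simp only [Units.val_mul, coe_rootY hr, coe_rootY hs]
  rw [h, ← Units.coeHom_apply, map_list_prod, List.map_map, mul_assoc]
  congr 3
  refine List.map_congr_left fun c hc' => ?_
  simp only [Function.comp, ev_xl, Units.coeHom_apply, coe_rootY (hlt c hc')]
  congr 1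
  push_cast
  rw [neg_pow t]
  ring

/-! ### Scalings -/

variable (F) in
/-- The diagonal matrix `c ^ w`. -/
def scal (a : Fin 2) (c : Fˣ) : Matrix Idx5 Idx5 F :=
  Matrix.diagonal fun k => ((c ^ wtN a (code k) : Fˣ) : F)

theorem scal_mul (a : Fin 2) (c d : Fˣ) : scal F a c * scal F a d = scal F a (c * d) := by
  rw [scal, scal, scal, Matrix.diagonal_mul_diagonal]
  congr 1; funext k
  rw [← Units.val_mul, mul_zpow]

theorem scal_one (a : Fin 2) : scal F a 1 = 1 := by simp [scal]

variable (F) in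
/-- A diagonal scaling as a group element. -/
def scalGL (a : Fin 2) (c : Fˣ) : GL Idx5 F :=
  ⟨scal F a c, scal F a c⁻¹, by rw [scal_mul, mul_inv_cancel, scal_one],
    by rw [scal_mul, inv_mul_cancel, scal_one]⟩

theorem coe_scalGL (a : Fin 2) (c : Fˣ) : (scalGL F a c : Matrix Idx5 Idx5 F) = scal F a c := rfl

theorem scalGL_mul (a : Fin 2) (c d : Fˣ) : scalGL F a c * scalGL F a d = scalGL F a (c * d) := by
  ext1
  rw [Units.val_mul, coe_scalGL, coe_scalGL, coe_scalGL, scal_mul]

theorem scal_mul_entM {a : Fin 2} {c : Fˣ} {m : ℤ} : ∀ {l : List (ℕ × ℕ × ℤ)},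
    (l.all fun e => wtN a e.1 - wtN a e.2.1 == m) = true →
    scal F a c * entM F l = ((c ^ m : Fˣ) : F) • (entM F l * scal F a c)
  | [], _ => by simp [entM, atExp, ev_nil]
  | e :: l, h => by
    simp only [List.all_cons, Bool.and_eq_true, beq_iff_eq] at h
    rw [show entM F (e :: l) = ev 1 1 [((0 : ℕ), (0 : ℕ), e.1, e.2.1, (1 : ℤ) * e.2.2)] + entM F l
      from ev_cons _ _ _ _, mul_add, scal_mul_entM h.2, add_mul, smul_add]
    congr 1
    ext i j
    simp only [scal, Matrix.diagonal_mul, Matrix.smul_apply, Matrix.mul_diagonal, smul_eq_mul, ev_apply, evT, cf,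
      List.map_cons, List.map_nil, List.sum_cons, List.sum_nil, add_zero]
    split_ifs with hij
    · rw [← hij.1, ← hij.2, show wtN a e.1 = m + wtN a e.2.1 by omega, _root_.zpow_add, Units.val_mul]
      ring
    · simp

theorem scal_conj {r : ℕ} (hr : r < 8) (a : Fin 2) (c : Fˣ) (t : F) :
    scalGL F a c * rootY F r t = rootY F r (((c ^ rwt a r : Fˣ) : F) * t) * scalGL F a c := by
  obtain ⟨h1, h2⟩ := support_dec a ⟨r, hr⟩
  ext1
  rw [Units.val_mul, Units.val_mul, coe_rootY hr, coe_rootY hr, coe_scalGL, X5, X5, mul_add, mul_add,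
    Matrix.mul_smul, Matrix.mul_smul, scal_mul_entM h1, scal_mul_entM h2, two_mul, _root_.zpow_add,
    Units.val_mul, mul_one, add_mul, add_mul, one_mul, Matrix.smul_mul, Matrix.smul_mul, smul_smul, smul_smul]
  congr 2 <;> ring

variable (F) in
/-- `n_r(c) = y_r(c) y_{-r}(-c⁻¹) y_r(c)`. -/
def rootN (r : ℕ) (c : F) : GL Idx5 F := rootY F r c * rootY F (opp r) (-c⁻¹) * rootY F r c

theorem rootN_eq_conj {r : ℕ} (hr : r < 8) (a : Fin 2) (h : rwt a r = 1) (h' : rwt a (opp r) = -1) (c : Fˣ) :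
    rootN F r (c : F) * scalGL F a c = scalGL F a c * rootN F r 1 := by
  have ho : opp r < 8 := by simp only [opp]; omega
  have e1 : scalGL F a c * rootY F r 1 = rootY F r (c : F) * scalGL F a c := by
    rw [scal_conj hr, h, zpow_one, mul_one]
  have e2 : scalGL F a c * rootY F (opp r) (-1) = rootY F (opp r) (-(c : F)⁻¹) * scalGL F a c := by
    rw [scal_conj ho, h', _root_.zpow_neg, zpow_one, Units.val_inv_eq_inv_val, mul_neg, mul_one]
  calc rootN F r (c : F) * scalGL F a c
      = rootY F r (c : F) * rootY F (opp r) (-(c : F)⁻¹) * (rootY F r (c : F) * scalGL F a c) := by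
        rw [rootN, mul_assoc]
    _ = rootY F r (c : F) * (rootY F (opp r) (-(c : F)⁻¹) * scalGL F a c) * rootY F r 1 := by
        rw [← e1]; group
    _ = (rootY F r (c : F) * scalGL F a c) * rootY F (opp r) (-1) * rootY F r 1 := by rw [← e2]; group
    _ = scalGL F a c * rootN F r 1 := by rw [← e1, rootN, inv_one]; group

theorem coe_rootN_one {r : ℕ} (hr : r < 8) (t u : F) :
    (rootN F r 1 : Matrix Idx5 Idx5 F) = ev t u (nList r) := by
  have ho : opp r < 8 := by simp only [opp]; omega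
  rw [nList, ev_prodL _ _ _ (by simp [inRange_xl' hr, inRange_xl' ho])]
  simp [ev_xl, rootN, coe_rootY hr, coe_rootY ho, mul_assoc]

theorem rootN_one_conj (i : Fin 2) {s : ℕ} (hs : s < 8) (t : F) :
    rootN F (chevB2.simple i) 1 * rootY F s t =
      rootY F (refl B2.cert i s) ((eta B2.cert i s : F) * t) * rootN F (chevB2.simple i) 1 := by
  have hp : chevB2.simple i < 8 := checked_B2.simple_lt (show (i : ℕ) < chevB2.rank from i.isLt)
  have hr : refl B2.cert i s < 8 :=
    checked_B2.refl_lt (show (i : ℕ) < chevB2.rank from i.isLt) (show s < chevB2.nroots from hs)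
  have h := ev_eq_of_eqL (nInt_table i ⟨s, hs⟩) t 0
  rw [ev_mulL _ _ _ _ (inRange_n i), ev_mulL _ _ _ _ (inRange_xl' hr _ _ _), ev_xl, ev_xl,
    ← coe_rootN_one hp] at h
  simp only [Int.cast_one, pow_one, pow_zero, mul_one, one_mul] at h
  ext1
  rw [Units.val_mul, Units.val_mul, coe_rootY hs, coe_rootY hr]
  exact h

theorem rootN_conj {i : ℕ} (hi : i < 2) {s : ℕ} (hs : s < 8) (c : Fˣ) (t : F) :
    rootN F (chevB2.simple i) c * rootY F s t * (rootN F (chevB2.simple i) c)⁻¹ =
      rootY F (refl B2.cert i s)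
        (((c ^ chevB2.cartan i (refl B2.cert i s) : Fˣ) : F) * ((eta B2.cert i s : F) * t)) := by
  have hp : chevB2.simple i < 8 := checked_B2.simple_lt (show i < chevB2.rank from hi)
  have hr : refl B2.cert i s < 8 :=
    checked_B2.refl_lt (show i < chevB2.rank from hi) (show s < chevB2.nroots from hs)
  obtain ⟨ha, ha'⟩ := axis_dec ⟨i, hi⟩
  set a := axis i
  set d := scalGL F a c
  set m := rwt a s
  have e1 := rootN_eq_conj hp a ha ha' c
  rw [mul_inv_eq_iff_eq_mul]
  refine mul_right_cancel (b := d) ?_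
  have e2 : rootY F s t * d = d * rootY F s (((c ^ (-m) : Fˣ) : F) * t) := by
    rw [scal_conj hs, ← mul_assoc, ← Units.val_mul, ← _root_.zpow_add, add_neg_cancel, zpow_zero, Units.val_one,
      one_mul]
  rw [mul_assoc, e2, ← mul_assoc, e1, mul_assoc, rootN_one_conj ⟨i, hi⟩ hs, ← mul_assoc, scal_conj hr, mul_assoc,
    ← e1, ← mul_assoc]
  congr 3
  rw [← cartan_dec ⟨i, hi⟩ ⟨s, hs⟩, sub_eq_add_neg, _root_.zpow_add, Units.val_mul]
  ring

end Cfsg.Agent.Lib.B2Orth
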